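import Mathlib

/-!
A group with an involutory automorphism with few fixed points, generated by few elements, has an
abelian normal invariant subgroup of bounded index (elementary version of Hartley–Meixner).
-/

set_option autoImplicit false

namespace H66.InvSub

variable {Q : Type*} [Group Q] [Finite Q]

/-- The number of fixed points of an automorphism. -/
noncomputable abbrev nfix (α : MulAut Q) : ℕ := Nat.card {g : Q // α g = g}

theorem nfix_pos (α : MulAut Q) : 0 < nfix α :=
  Nat.card_pos_iff.2 ⟨⟨⟨1, map_one α⟩⟩, inferInstance⟩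

theorem card_le_nfix_mul_inverted (α : MulAut Q) (hα : ∀ g, α (α g) = g) :
    Nat.card Q ≤ nfix α * {u : Q | α u = u⁻¹}.ncard := by
  classical
  haveI := Fintype.ofFinite Q
  let U : Finset Q := Finset.univ.filter fun u => α u = u⁻¹
  have h : (Finset.univ : Finset Q).card ≤ nfix α * U.card := by
    refine Finset.card_le_mul_card_image_of_maps_to (f := fun g => g * (α g)⁻¹) ?_ _ ?_
    · intro g _
      simp only [U, Finset.coe_filter, Finset.mem_univ, true_and, Set.mem_setOf_eq, Finset.mem_filter]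
      rw [map_mul, map_inv, hα, mul_inv_rev, inv_inv]
    · intro u _
      by_cases hne : ((Finset.univ : Finset Q).filter fun g => g * (α g)⁻¹ = u).Nonempty
      · obtain ⟨g₀, hg₀⟩ := hne
        rw [Finset.mem_filter] at hg₀
        rw [nfix, Nat.card_eq_fintype_card, Fintype.card_subtype]
        refine Finset.card_le_card_of_injOn (fun g => g₀⁻¹ * g) ?_ ?_
        · intro g hg
          simp only [Finset.coe_filter, Finset.mem_univ, true_and, Set.mem_setOf_eq] at hg ⊢
          have h1 : g * (α g)⁻¹ = g₀ * (α g₀)⁻¹ := hg.trans hg₀.2.symm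
          rw [map_mul, map_inv]
          calc (α g₀)⁻¹ * α g = g₀⁻¹ * (g₀ * (α g₀)⁻¹) * α g := by group
            _ = g₀⁻¹ * g := by rw [← h1]; group
        · intro g _ g' _ h
          exact mul_left_cancel h
      · rw [Finset.not_nonempty_iff_eq_empty.1 hne]
        simp
  rw [Finset.card_univ, ← Nat.card_eq_fintype_card] at h
  convert h using 2
  rw [← Set.ncard_coe_finset]
  simp [U]

/-- Two translates of the inverted elements meet in at most a centraliser. -/
theorem inter_le_centralizer (α : MulAut Q) (s s' : Q) :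
    {g | α (s⁻¹ * g) = (s⁻¹ * g)⁻¹ ∧ α (s'⁻¹ * g) = (s'⁻¹ * g)⁻¹}.ncard ≤
      Nat.card (Subgroup.centralizer ({s⁻¹ * s'} : Set Q)) := by
  classical
  rcases Set.eq_empty_or_nonempty
    {g | α (s⁻¹ * g) = (s⁻¹ * g)⁻¹ ∧ α (s'⁻¹ * g) = (s'⁻¹ * g)⁻¹} with h | ⟨g₀, hg₀⟩
  · rw [h, Set.ncard_empty]
    exact Nat.zero_le _
  have key : ∀ g, α (s⁻¹ * g) = (s⁻¹ * g)⁻¹ → α (s'⁻¹ * g) = (s'⁻¹ * g)⁻¹ →
      α (s⁻¹ * s') = (s⁻¹ * g)⁻¹ * (s'⁻¹ * g) := by
    intro g h1 h2
    rw [show s⁻¹ * s' = (s⁻¹ * g) * (s'⁻¹ * g)⁻¹ by group, map_mul, map_inv, h1, h2, inv_inv]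
  rw [← Nat.card_coe_set_eq]
  refine Nat.card_le_card_of_injective
    (fun g : {g | α (s⁻¹ * g) = (s⁻¹ * g)⁻¹ ∧ α (s'⁻¹ * g) = (s'⁻¹ * g)⁻¹} =>
      (⟨(s⁻¹ * (g : Q)) * (s⁻¹ * g₀)⁻¹, ?_⟩ : Subgroup.centralizer ({s⁻¹ * s'} : Set Q))) ?_
  · rw [Subgroup.mem_centralizer_singleton_iff]
    have h3 : (s⁻¹ * (g : Q))⁻¹ * (s'⁻¹ * g) = (s⁻¹ * g₀)⁻¹ * (s'⁻¹ * g₀) :=
      (key g g.2.1 g.2.2).symm.trans (key g₀ hg₀.1 hg₀.2)
    calc s⁻¹ * (g : Q) * (s⁻¹ * g₀)⁻¹ * (s⁻¹ * s')
        = s⁻¹ * (g : Q) * ((s⁻¹ * g₀)⁻¹ * (s'⁻¹ * g₀))⁻¹ * (s⁻¹ * g₀)⁻¹ := by group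
      _ = s⁻¹ * (g : Q) * ((s⁻¹ * (g : Q))⁻¹ * (s'⁻¹ * g))⁻¹ * (s⁻¹ * g₀)⁻¹ := by rw [h3]
      _ = s⁻¹ * s' * (s⁻¹ * (g : Q) * (s⁻¹ * g₀)⁻¹) := by group
  · intro g g' h
    have h' : s⁻¹ * (g : Q) * (s⁻¹ * g₀)⁻¹ = s⁻¹ * (g' : Q) * (s⁻¹ * g₀)⁻¹ := congrArg Subtype.val h
    exact Subtype.ext (mul_left_cancel (mul_right_cancel h'))

/-- Many translates: two of them differ by an element with a large centraliser. -/
theorem exists_pair (α : MulAut Q) (hα : ∀ g, α (α g) = g) (S : Finset Q)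
    (hS : S.card = 2 * nfix α) :
    ∃ s ∈ S, ∃ s' ∈ S, s ≠ s' ∧
      Nat.card Q ≤ Nat.card (Subgroup.centralizer ({s⁻¹ * s'} : Set Q)) * (S.card * S.card) := by
  classical
  haveI := Fintype.ofFinite Q
  by_contra hno
  push Not at hno
  let U : Finset Q := Finset.univ.filter fun u => α u = u⁻¹
  let f : Q → Finset Q := fun s => Finset.univ.filter fun g => α (s⁻¹ * g) = (s⁻¹ * g)⁻¹
  have hf : ∀ s, (f s).card = U.card := fun s => by
    refine Finset.card_equiv (Equiv.mulLeft s⁻¹) fun g => ?_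
    simp [f, U]
  have hbase := card_le_nfix_mul_inverted α hα
  have hU : {u : Q | α u = u⁻¹}.ncard = U.card := by rw [← Set.ncard_coe_finset]; simp [U]
  rw [hU] at hbase
  obtain ⟨N, hN⟩ : ∃ N, N = Nat.card Q := ⟨_, rfl⟩
  have hNpos : 0 < N := hN ▸ Nat.card_pos
  have main : ∀ T ⊆ S, T.card * U.card * (S.card * S.card) ≤
      (T.biUnion f).card * (S.card * S.card) + T.card * T.card * N := by
    intro T
    induction T using Finset.induction_on with
    | empty => simp
    | @insert a T haT ih =>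
      intro hsub
      have hTS : T ⊆ S := (Finset.subset_insert a T).trans hsub
      have h1 := ih hTS
      have h2 : (f a ∩ T.biUnion f).card * (S.card * S.card) ≤ T.card * N := by
        rw [Finset.inter_biUnion]
        refine (Nat.mul_le_mul_right _ Finset.card_biUnion_le).trans ?_
        rw [Finset.sum_mul, ← smul_eq_mul T.card N]
        refine Finset.sum_le_card_nsmul _ _ _ fun s hs => ?_
        have hne : a ≠ s := fun h => haT (h ▸ hs)
        have h3 := hno a (hsub (Finset.mem_insert_self a T)) s (hTS hs) hne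
        refine le_trans (Nat.mul_le_mul_right _ (le_trans (le_of_eq ?_) (inter_le_centralizer α a s)))
          (hN ▸ h3.le)
        rw [← Set.ncard_coe_finset]
        congr 1
        ext g
        simp [f]
      have h4 := Finset.card_union_add_card_inter (f a) (T.biUnion f)
      rw [hf] at h4
      rw [Finset.biUnion_insert, Finset.card_insert_of_notMem haT]
      nlinarith
  have h := main S subset_rfl
  have hle : (S.biUnion f).card ≤ N := by
    rw [hN, Nat.card_eq_fintype_card]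
    exact Finset.card_le_univ _
  rw [← hN] at hbase
  have hc := nfix_pos α
  have hSpos : 0 < S.card := by omega
  have h5 : 2 * N ≤ S.card * U.card := by
    rw [hS]
    calc 2 * N ≤ 2 * (nfix α * U.card) := Nat.mul_le_mul_left 2 hbase
      _ = 2 * nfix α * U.card := by ring
  have h6 : (2 * N) * (S.card * S.card) ≤ S.card * U.card * (S.card * S.card) :=
    Nat.mul_le_mul_right _ h5
  -- `2 N k² ≤ N k² + k² N`: strictness from `T.card * (T.card - 1)`
  obtain ⟨a, ha⟩ := Finset.card_pos.1 hSpos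
  have h10 := main (S.erase a) (Finset.erase_subset a S)
  have hsplit : S.biUnion f = f a ∪ (S.erase a).biUnion f := by
    conv_lhs => rw [← Finset.insert_erase ha]
    rw [Finset.biUnion_insert]
  have h2 : (f a ∩ (S.erase a).biUnion f).card * (S.card * S.card) ≤ (S.erase a).card * N := by
    rw [Finset.inter_biUnion]
    refine (Nat.mul_le_mul_right _ Finset.card_biUnion_le).trans ?_
    rw [Finset.sum_mul, ← smul_eq_mul (S.erase a).card N]
    refine Finset.sum_le_card_nsmul _ _ _ fun s hs => ?_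
    obtain ⟨hne, hsS⟩ := Finset.mem_erase.1 hs
    refine le_trans (Nat.mul_le_mul_right _ (le_trans (le_of_eq ?_) (inter_le_centralizer α a s)))
      (hN ▸ (hno a ha s hsS hne.symm).le)
    rw [← Set.ncard_coe_finset]
    congr 1
    ext g
    simp [f]
  have h4 := Finset.card_union_add_card_inter (f a) ((S.erase a).biUnion f)
  rw [hf, ← hsplit] at h4
  obtain ⟨s, hs⟩ : ∃ s, S.card = s + 1 := ⟨S.card - 1, by omega⟩
  rw [Finset.card_erase_of_mem ha, hs, Nat.add_sub_cancel] at h10 h2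
  rw [hs] at h6
  nlinarith

/-- The subgroup: abelian of bounded index. -/
def abIndexBound (c m : ℕ) : ℕ :=
  2 * c * (4 * (c * c)) ^ (m * (2 * c) + 1)

theorem exists_abelian (α : MulAut Q) (hα : ∀ g, α (α g) = g) (I : Set Q)
    (hgen : Subgroup.closure I = ⊤) (hsymm : ∀ x ∈ I, x⁻¹ ∈ I) {c m : ℕ} (hc : nfix α ≤ c)
    (hm : I.ncard ≤ m) :
    ∃ A : Subgroup Q, (∀ a ∈ A, ∀ b ∈ A, a * b = b * a) ∧ A.index ≤ abIndexBound c m := by
  classical
  haveI := Fintype.ofFinite Q
  obtain ⟨K, hK⟩ : ∃ K, K = 4 * (nfix α * nfix α) := ⟨_, rfl⟩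
  let L : Q → Prop := fun w => Nat.card Q ≤ Nat.card (Subgroup.centralizer ({w} : Set Q)) * K
  have hK1 : 1 ≤ K := by have := nfix_pos α; rw [hK]; nlinarith
  have hL1 : L 1 := by
    show Nat.card Q ≤ _
    have h : Subgroup.centralizer ({1} : Set Q) = ⊤ := by
      ext g
      simp [Subgroup.mem_centralizer_singleton_iff]
    rw [h, Subgroup.card_top]
    exact Nat.le_mul_of_pos_right _ hK1
  have hLinv : ∀ w, L w → L w⁻¹ := by
    intro w hw
    have h : Subgroup.centralizer ({w⁻¹} : Set Q) = Subgroup.centralizer ({w} : Set Q) := by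
      ext g
      simp only [Subgroup.mem_centralizer_singleton_iff]
      exact ⟨fun h => (Commute.inv_right_iff.1 h), fun h => Commute.inv_right_iff.2 h⟩
    show Nat.card Q ≤ _
    rw [h]
    exact hw
  -- a maximal independent set
  let ind : Finset Q → Prop := fun T => ∀ s ∈ T, ∀ s' ∈ T, s ≠ s' → ¬ L (s⁻¹ * s')
  obtain ⟨T, hT, hmax⟩ := Finset.exists_max_image ((Finset.univ : Finset (Finset Q)).filter ind)
    Finset.card ⟨∅, by simp [ind]⟩
  rw [Finset.mem_filter] at hT
  have hTcard : T.card < 2 * nfix α := by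
    by_contra h
    push Not at h
    obtain ⟨S, hST, hS⟩ := Finset.exists_subset_card_eq h
    obtain ⟨s, hs, s', hs', hne, hle⟩ := exists_pair α hα S hS
    refine hT.2 s (hST hs) s' (hST hs') hne ?_
    show Nat.card Q ≤ _
    rw [hK, show 4 * (nfix α * nfix α) = S.card * S.card by rw [hS]; ring]
    exact hle
  have hcov : ∀ g : Q, ∃ s : T, L ((s : Q)⁻¹ * g) := by
    intro g
    by_contra hno
    push Not at hno
    have hgT : g ∉ T := fun h => hno ⟨g, h⟩ (by rw [inv_mul_cancel]; exact hL1)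
    have h := hmax (insert g T) (by
      rw [Finset.mem_filter]
      refine ⟨Finset.mem_univ _, ?_⟩
      intro s hs s' hs' hne
      rw [Finset.mem_insert] at hs hs'
      rcases hs with rfl | hs <;> rcases hs' with rfl | hs'
      · exact absurd rfl hne
      · intro hL
        have := hLinv _ hL
        rw [mul_inv_rev, inv_inv] at this
        exact hno ⟨s', hs'⟩ this
      · exact hno ⟨s, hs⟩
      · exact hT.2 s hs s' hs' hne)
    rw [Finset.card_insert_of_notMem hgT] at h
    omega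
  choose p hp using hcov
  let w : Option (I × T) → Q := fun o => o.elim ((p 1 : Q)⁻¹)
    fun xs => (p ((xs.1 : Q) * (xs.2 : Q)) : Q)⁻¹ * ((xs.1 : Q) * (xs.2 : Q))
  have hw : ∀ o, L (w o) := by
    rintro (_ | ⟨x, s⟩)
    · have := hp 1
      rwa [mul_one] at this
    · exact hp _
  let H : Subgroup Q := Subgroup.closure (Set.range w)
  have hH : H.index ≤ T.card := by
    have hall : ∀ g : Q, ∀ h : Q, (∃ s : T, (s : Q)⁻¹ * h ∈ H) → ∃ s : T, (s : Q)⁻¹ * (g * h) ∈ H := by
      intro g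
      have step : ∀ x ∈ I, ∀ h : Q, (∃ s : T, (s : Q)⁻¹ * h ∈ H) →
          ∃ s : T, (s : Q)⁻¹ * (x * h) ∈ H := by
        rintro x hx h ⟨s, hs⟩
        refine ⟨p (x * s), ?_⟩
        rw [show ((p (x * s)) : Q)⁻¹ * (x * h) =
          ((p (x * s)) : Q)⁻¹ * (x * (s : Q)) * ((s : Q)⁻¹ * h) by group]
        exact mul_mem (Subgroup.subset_closure ⟨some (⟨x, hx⟩, s), rfl⟩) hs
      refine Subgroup.closure_induction''
        (p := fun g _ => ∀ h : Q, (∃ s : T, (s : Q)⁻¹ * h ∈ H) → ∃ s : T, (s : Q)⁻¹ * (g * h) ∈ H)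
        step (fun x hx => step x⁻¹ (hsymm x hx)) (fun h hh => by rwa [one_mul])
        (fun a b _ _ ha hb h hh => by rw [mul_assoc]; exact ha _ (hb h hh))
        (hgen ▸ Subgroup.mem_top g)
    rw [Subgroup.index_eq_card, ← Fintype.card_coe T, ← Nat.card_eq_fintype_card]
    refine Nat.card_le_card_of_surjective (fun s : T => ((s : Q) : Q ⧸ H)) ?_
    intro q
    induction q using QuotientGroup.induction_on with
    | _ g =>
      obtain ⟨s, hs⟩ := hall g 1 ⟨p 1, by
        rw [mul_one]; exact Subgroup.subset_closure ⟨none, rfl⟩⟩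
      rw [mul_one] at hs
      exact ⟨s, QuotientGroup.eq.2 hs⟩
  refine ⟨H ⊓ ⨅ o, Subgroup.centralizer ({w o} : Set Q), ?_, ?_⟩
  · intro a ha b hb
    have h : H ≤ Subgroup.centralizer ({a} : Set Q) := by
      rw [Subgroup.closure_le]
      rintro _ ⟨o, rfl⟩
      have := (Subgroup.mem_iInf.1 ha.2) o
      rw [Subgroup.mem_centralizer_singleton_iff] at this
      rw [SetLike.mem_coe, Subgroup.mem_centralizer_singleton_iff]
      exact this.symm
    exact (Subgroup.mem_centralizer_singleton_iff.1 (h hb.1)).symm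
  · refine Subgroup.index_inf_le.trans ?_
    refine Nat.mul_le_mul (hH.trans (by omega)) ?_
    refine (Subgroup.index_iInf_le _).trans ?_
    refine (Finset.prod_le_pow_card _ _ (4 * (c * c)) fun o _ => ?_).trans ?_
    · have h1 : Nat.card Q ≤ Nat.card (Subgroup.centralizer ({w o} : Set Q)) * K := hw o
      rw [← Subgroup.card_mul_index (Subgroup.centralizer ({w o} : Set Q))] at h1
      refine (Nat.le_of_mul_le_mul_left h1 Nat.card_pos).trans ?_
      rw [hK]
      nlinarith
    · refine Nat.pow_le_pow_right (by have := nfix_pos α; nlinarith) ?_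
      rw [Finset.card_univ, Fintype.card_option, Fintype.card_prod, ← Nat.card_eq_fintype_card,
        Nat.card_coe_set_eq, Fintype.card_coe]
      exact Nat.add_le_add_right (Nat.mul_le_mul hm (by omega)) 1

end H66.InvSub
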