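import Cfsg.Agent.H66.InvSub.Abelian

/-!
Bounding a finite group generated by the elements of odd order inverted by an involutory
automorphism in terms of their number.
-/

set_option autoImplicit false

open scoped commutatorElement

namespace H66.InvSub

variable {Q : Type*} [Group Q] [Finite Q]

/-- The elements of odd order inverted by `α`. -/
def invOdd (α : MulAut Q) : Set Q := {g | Odd (orderOf g) ∧ α g = g⁻¹}

theorem invOdd_inv (α : MulAut Q) : ∀ x ∈ invOdd α, x⁻¹ ∈ invOdd α := fun x hx =>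
  ⟨by rw [orderOf_inv]; exact hx.1, by rw [map_inv, hx.2]⟩

theorem pow_mem_invOdd {α : MulAut Q} {x : Q} (hx : x ∈ invOdd α) (k : ℕ) : x ^ k ∈ invOdd α :=
  ⟨Odd.of_dvd_nat hx.1 (orderOf_pow_dvd k), by rw [map_pow, hx.2, inv_pow]⟩

theorem orderOf_le_of_invOdd {α : MulAut Q} {x : Q} (hx : x ∈ invOdd α) :
    orderOf x ≤ (invOdd α).ncard := by
  rw [← Nat.card_zpowers, ← SetLike.coe_sort_coe, Nat.card_coe_set_eq]
  refine Set.ncard_le_ncard ?_
  intro y hy
  obtain ⟨k, rfl⟩ := (mem_powers_iff_mem_zpowers).2 hy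
  exact pow_mem_invOdd hx k

/-- Odd part: a power congruent to `1` on elements of odd order. -/
theorem exists_odd_part (u : Q) :
    ∃ k j : ℕ, Odd (orderOf (u ^ k)) ∧ (u * (u ^ k)⁻¹) ^ (2 ^ j) = 1 ∧
      ∀ n : ℕ, Odd n → n ∣ orderOf u → k ≡ 1 [MOD n] := by
  have hpos := orderOf_pos u
  obtain ⟨j, r, hr, hu⟩ : ∃ j r : ℕ, Odd r ∧ orderOf u = 2 ^ j * r :=
    Nat.exists_eq_two_pow_mul_odd hpos.ne'
  have hco : Nat.Coprime (2 ^ j) r := (Nat.coprime_two_left.2 hr).pow_left j
  let c := Nat.chineseRemainder hco 0 1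
  have hc := c.2
  refine ⟨c, j, ?_, ?_, ?_⟩
  · have hdvd : orderOf (u ^ (c : ℕ)) ∣ r := by
      rw [orderOf_dvd_iff_pow_eq_one, ← pow_mul, ← orderOf_dvd_iff_pow_eq_one, hu]
      exact Nat.mul_dvd_mul_right ((Nat.modEq_zero_iff_dvd).1 hc.1) r
    exact Odd.of_dvd_nat hr hdvd
  · rw [← inv_pow, ((Commute.refl u).inv_right.pow_right (c : ℕ)).mul_pow, ← pow_mul, inv_pow,
      mul_inv_eq_one, pow_eq_pow_iff_modEq, hu]
    calc 2 ^ j = 1 * 2 ^ j := (one_mul _).symm
      _ ≡ (c : ℕ) * 2 ^ j [MOD 2 ^ j * r] := by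
          rw [mul_comm (2 ^ j) r]
          exact (hc.2.symm).mul_right' (2 ^ j)
  · intro n hn hnu
    have hnr : n ∣ r := by
      refine (Nat.Coprime.dvd_mul_left ?_).1 (hu ▸ hnu)
      exact ((Nat.coprime_two_left.2 hn).pow_left j).symm
    exact hc.2.of_dvd hnr

/-- An element inverting a normal abelian subgroup up to few fixed points has small index centraliser. -/
theorem index_centralizer_le (α : MulAut Q) (hα : ∀ g, α (α g) = g) (A : Subgroup Q) [A.Normal]
    (hab : ∀ a ∈ A, ∀ b ∈ A, a * b = b * a) (hAα : ∀ a ∈ A, α a ∈ A) {x : Q}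
    (hx : x ∈ invOdd α) :
    (Subgroup.centralizer ({x} : Set Q)).index ≤
      A.index * nfix α * (nfix α * (invOdd α).ncard) := by
  classical
  haveI := Fintype.ofFinite Q
  let A' : Finset Q := Finset.univ.filter fun a => a ∈ A
  let B : Finset Q := A'.filter fun b => α b = b⁻¹
  let BC : Finset Q := B.filter fun b => x * b = b * x
  have hA' : A'.card = Nat.card A := by
    rw [← SetLike.coe_sort_coe, Nat.card_coe_set_eq, ← Set.ncard_coe_finset]
    simp [A']
  have hfix : ∀ (S : Finset Q), (∀ b ∈ S, α b = b) → S.card ≤ nfix α := by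
    intro S hS
    rw [nfix, Nat.card_eq_fintype_card, Fintype.card_subtype]
    exact Finset.card_le_card fun b hb => Finset.mem_filter.2 ⟨Finset.mem_univ _, hS b hb⟩
  -- step 1
  have h1 : A'.card ≤ nfix α * B.card := by
    refine Finset.card_le_mul_card_image_of_maps_to (f := fun a => a * (α a)⁻¹) ?_ _ ?_
    · intro a ha
      simp only [A', B, Finset.coe_filter, Finset.mem_univ, true_and, Set.mem_setOf_eq,
        Finset.mem_filter] at ha ⊢
      exact ⟨mul_mem ha (inv_mem (hAα a ha)), by rw [map_mul, map_inv, hα, mul_inv_rev, inv_inv]⟩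
    · intro u _
      by_cases hne : (A'.filter fun a => a * (α a)⁻¹ = u).Nonempty
      · obtain ⟨g₀, hg₀⟩ := hne
        rw [Finset.mem_filter] at hg₀
        rw [← Finset.card_image_of_injective _ (mul_right_injective g₀⁻¹)]
        refine hfix _ fun b hb => ?_
        obtain ⟨g, hg, rfl⟩ := Finset.mem_image.1 hb
        rw [Finset.mem_filter] at hg
        have h1 : g * (α g)⁻¹ = g₀ * (α g₀)⁻¹ := hg.2.trans hg₀.2.symm
        simp only [map_mul, map_inv]
        calc (α g₀)⁻¹ * α g = g₀⁻¹ * (g₀ * (α g₀)⁻¹) * α g := by group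
          _ = g₀⁻¹ * g := by rw [← h1]; group
      · rw [Finset.not_nonempty_iff_eq_empty.1 hne]
        simp
  -- step 2
  have hconjA : ∀ a ∈ A, x⁻¹ * a * x ∈ A := fun a ha => by
    have := (inferInstance : A.Normal).conj_mem a ha x⁻¹
    rwa [inv_inv] at this
  let φ : Q → Q := fun b => x⁻¹ * b * x * b
  have hker : ∀ b ∈ A, α b = b⁻¹ → x⁻¹ * b * x * b = 1 → α b = b := by
    intro b _ hαb h
    have hstep : x⁻¹ * b * x = b⁻¹ := eq_inv_of_mul_eq_one_left h
    have hpow : ∀ j : ℕ, (x ^ j)⁻¹ * b * x ^ j = if Even j then b else b⁻¹ := by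
      intro j
      induction j with
      | zero => simp
      | succ j ih =>
        rw [pow_succ, mul_inv_rev, show x⁻¹ * (x ^ j)⁻¹ * b * (x ^ j * x) =
          x⁻¹ * ((x ^ j)⁻¹ * b * x ^ j) * x by group, ih]
        by_cases hj : Even j
        · rw [if_pos hj, if_neg (by rw [Nat.even_add_one]; exact not_not.2 hj), hstep]
        · rw [if_neg hj, if_pos (Nat.even_add_one.2 hj),
            show x⁻¹ * b⁻¹ * x = (x⁻¹ * b * x)⁻¹ by group, hstep, inv_inv]
    have h2 := hpow (orderOf x)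
    rw [if_neg (Nat.not_even_iff_odd.2 hx.1), pow_orderOf_eq_one] at h2
    simp only [inv_one, one_mul, mul_one] at h2
    rw [hαb, ← h2]
  have h2 : B.card ≤ nfix α * (B.image φ).card := by
    refine Finset.card_le_mul_card_image B _ fun u hu => ?_
    obtain ⟨g₀, hg₀, hu'⟩ := Finset.mem_image.1 hu
    rw [← Finset.card_image_of_injective _ (mul_right_injective g₀⁻¹)]
    refine hfix _ fun b hb => ?_
    obtain ⟨g, hg, rfl⟩ := Finset.mem_image.1 hb
    obtain ⟨hgB, hgu⟩ := Finset.mem_filter.1 hg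
    simp only [B, A', Finset.mem_filter, Finset.mem_univ, true_and] at hgB hg₀
    refine hker _ (mul_mem (inv_mem hg₀.1) hgB.1) ?_ ?_
    · rw [map_mul, map_inv, hg₀.2, hgB.2, inv_inv, mul_inv_rev, inv_inv,
        hab g₀ hg₀.1 g⁻¹ (inv_mem hgB.1)]
    · have h : φ g = φ g₀ := hgu.trans hu'.symm
      calc x⁻¹ * (g₀⁻¹ * g) * x * (g₀⁻¹ * g)
          = (x⁻¹ * g₀⁻¹ * x) * ((x⁻¹ * g * x) * g₀⁻¹) * g := by group
        _ = (x⁻¹ * g₀⁻¹ * x) * (g₀⁻¹ * (x⁻¹ * g * x)) * g := by
            rw [hab _ (hconjA g hgB.1) g₀⁻¹ (inv_mem hg₀.1)]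
        _ = (x⁻¹ * g₀⁻¹ * x) * g₀⁻¹ * φ g := by simp only [φ, mul_assoc]
        _ = (x⁻¹ * g₀⁻¹ * x) * (g₀⁻¹ * ((x⁻¹ * g₀ * x) * g₀)) := by rw [h]; simp only [φ, mul_assoc]
        _ = (x⁻¹ * g₀⁻¹ * x) * (g₀⁻¹ * (g₀ * (x⁻¹ * g₀ * x))) := by
            rw [hab _ (hconjA g₀ hg₀.1) g₀ hg₀.1]
        _ = 1 := by group
  -- step 3
  have h3 : (B.image φ).card ≤ (invOdd α).ncard * BC.card := by
    have hI : (invOdd α).ncard = (Finset.univ.filter fun g => g ∈ invOdd α).card := by
      rw [← Set.ncard_coe_finset]; simp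
    rw [hI, ← Finset.card_product]
    refine le_trans (Finset.card_le_card ?_) (Finset.card_image_le
      (f := fun p : Q × Q => x⁻¹ * p.1 * p.2))
    intro v hv
    obtain ⟨b, hb, rfl⟩ := Finset.mem_image.1 hv
    simp only [B, A', Finset.mem_filter, Finset.mem_univ, true_and] at hb
    obtain ⟨u, hu⟩ : ∃ u, u = b * x * b := ⟨_, rfl⟩
    have hαu : α u = u⁻¹ := by
      rw [hu, map_mul, map_mul, hb.2, hx.2]; group
    obtain ⟨k, j, hodd, htwo, hk⟩ := exists_odd_part u
    have hux : QuotientGroup.mk' A u = QuotientGroup.mk' A x := by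
      rw [hu, map_mul, map_mul, show QuotientGroup.mk' A b = 1 from
        (QuotientGroup.eq_one_iff b).2 hb.1, one_mul, mul_one]
    have hord : orderOf (QuotientGroup.mk' A x) ∣ orderOf u := hux ▸ orderOf_map_dvd _ u
    have hxord : Odd (orderOf (QuotientGroup.mk' A x)) :=
      Odd.of_dvd_nat hx.1 (orderOf_map_dvd _ x)
    have hox : QuotientGroup.mk' A (u ^ k) = QuotientGroup.mk' A x := by
      rw [map_pow, hux]
      conv_rhs => rw [← pow_one (QuotientGroup.mk' A x)]
      rw [pow_eq_pow_iff_modEq]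
      exact hk _ hxord hord
    have hsA : u * (u ^ k)⁻¹ ∈ A := by
      rw [← QuotientGroup.eq_one_iff]
      show QuotientGroup.mk' A (u * (u ^ k)⁻¹) = 1
      rw [map_mul, map_inv, hox, hux, mul_inv_cancel]
    have hsinv : α (u * (u ^ k)⁻¹) = (u * (u ^ k)⁻¹)⁻¹ := by
      rw [map_mul, map_inv, map_pow, hαu, inv_pow, inv_inv, mul_inv_rev, inv_inv]
      exact ((Commute.refl u).inv_left.pow_right k).eq
    have hsx : x * (u * (u ^ k)⁻¹) = (u * (u ^ k)⁻¹) * x := by
      have ho : x⁻¹ * u ^ k ∈ A := by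
        rw [← QuotientGroup.eq_one_iff]
        show QuotientGroup.mk' A (x⁻¹ * u ^ k) = 1
        rw [map_mul, map_inv, hox, inv_mul_cancel]
      have hc1 : Commute (u * (u ^ k)⁻¹) (u ^ k) :=
        ((Commute.refl u).pow_right k).mul_left ((Commute.refl (u ^ k)).inv_left)
      have hc2 : Commute (u * (u ^ k)⁻¹) (x⁻¹ * u ^ k) := hab _ hsA _ ho
      have hc3 := hc1.mul_right hc2.inv_right
      rw [mul_inv_rev, inv_inv, ← mul_assoc, mul_inv_cancel, one_mul] at hc3
      exact hc3.eq.symm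
    refine Finset.mem_image.2 ⟨(u ^ k, u * (u ^ k)⁻¹), Finset.mem_product.2 ⟨?_, ?_⟩, ?_⟩
    · exact Finset.mem_filter.2 ⟨Finset.mem_univ _, hodd, by rw [map_pow, hαu, inv_pow]⟩
    · simp only [BC, B, A', Finset.mem_filter, Finset.mem_univ, true_and]
      exact ⟨⟨hsA, hsinv⟩, hsx⟩
    · show x⁻¹ * u ^ k * (u * (u ^ k)⁻¹) = φ b
      rw [mul_assoc, ← mul_assoc (u ^ k), ((Commute.refl u).pow_left k).eq, mul_inv_cancel_right, hu]
      simp only [φ, mul_assoc]
  -- conclude
  have h4 : BC.card ≤ Nat.card (Subgroup.centralizer ({x} : Set Q)) := by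
    rw [← SetLike.coe_sort_coe, Nat.card_coe_set_eq, ← Set.ncard_coe_finset]
    refine Set.ncard_le_ncard ?_
    intro b hb
    simp only [BC, Finset.coe_filter, Set.mem_setOf_eq] at hb
    rw [SetLike.mem_coe, Subgroup.mem_centralizer_singleton_iff]
    exact hb.2.symm
  have h5 : Nat.card A ≤ nfix α * (nfix α * ((invOdd α).ncard *
      Nat.card (Subgroup.centralizer ({x} : Set Q)))) := by
    rw [← hA']
    exact h1.trans (Nat.mul_le_mul_left _ (h2.trans (Nat.mul_le_mul_left _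
      (h3.trans (Nat.mul_le_mul_left _ h4)))))
  refine Nat.le_of_mul_le_mul_left ?_ (Nat.card_pos (α := Subgroup.centralizer ({x} : Set Q)))
  rw [Subgroup.card_mul_index, ← Subgroup.card_mul_index A]
  calc Nat.card A * A.index ≤ nfix α * (nfix α * ((invOdd α).ncard *
        Nat.card (Subgroup.centralizer ({x} : Set Q)))) * A.index := Nat.mul_le_mul_right _ h5
    _ = _ := by ring

/-- A bound for the index of the centre. -/
def centerBound (c m : ℕ) : ℕ :=
  (((abIndexBound c m).factorial * (abIndexBound c m).factorial) * c * (c * m) + 1) ^ m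

theorem index_center_le (α : MulAut Q) (hα : ∀ g, α (α g) = g)
    (hgen : Subgroup.closure (invOdd α) = ⊤) {c m : ℕ} (hc : nfix α ≤ c)
    (hm : (invOdd α).ncard ≤ m) : (Subgroup.center Q).index ≤ centerBound c m := by
  classical
  haveI := Fintype.ofFinite Q
  obtain ⟨A₀, hab, hA₀⟩ := exists_abelian α hα (invOdd α) hgen (invOdd_inv α) hc hm
  have hcore : A₀.normalCore.index ≤ (abIndexBound c m).factorial := by
    rw [Subgroup.normalCore_eq_ker, Subgroup.index_ker]
    refine (Nat.le_of_dvd Nat.card_pos (Subgroup.card_subgroup_dvd_card _)).trans ?_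
    rw [Nat.card_perm, ← Subgroup.index_eq_card]
    exact Nat.factorial_le hA₀
  let A : Subgroup Q := A₀.normalCore ⊓ A₀.normalCore.comap α.toMonoidHom
  haveI : A.Normal := Subgroup.normal_inf_normal _ _
  have hcomap : (A₀.normalCore.comap α.toMonoidHom).index = A₀.normalCore.index :=
    Subgroup.index_comap_of_surjective _ α.surjective
  have hA : A.index ≤ (abIndexBound c m).factorial * (abIndexBound c m).factorial :=
    Subgroup.index_inf_le.trans (Nat.mul_le_mul hcore (hcomap.le.trans hcore))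
  have hAab : ∀ a ∈ A, ∀ b ∈ A, a * b = b * a := fun a ha b hb =>
    hab a (A₀.normalCore_le ha.1) b (A₀.normalCore_le hb.1)
  have hAα : ∀ a ∈ A, α a ∈ A := by
    intro a ha
    refine ⟨ha.2, ?_⟩
    show α (α a) ∈ A₀.normalCore
    rw [hα]
    exact ha.1
  have hle : ⨅ x : invOdd α, Subgroup.centralizer ({(x : Q)} : Set Q) ≤ Subgroup.center Q := by
    intro z hz
    rw [Subgroup.mem_center_iff]
    intro g
    have hg : g ∈ Subgroup.centralizer ({z} : Set Q) := by
      refine (Subgroup.closure_le _).2 ?_ (hgen ▸ Subgroup.mem_top g)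
      intro x hx
      have := Subgroup.mem_iInf.1 hz ⟨x, hx⟩
      rw [Subgroup.mem_centralizer_singleton_iff] at this
      rw [SetLike.mem_coe, Subgroup.mem_centralizer_singleton_iff]
      exact this.symm
    exact Subgroup.mem_centralizer_singleton_iff.1 hg
  refine (Nat.le_of_dvd (Nat.pos_of_ne_zero Subgroup.index_ne_zero_of_finite)
    (Subgroup.index_dvd_of_le hle)).trans ?_
  refine (Subgroup.index_iInf_le _).trans ?_
  refine (Finset.prod_le_pow_card _ _
    (((abIndexBound c m).factorial * (abIndexBound c m).factorial) * c * (c * m) + 1)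
    fun x _ => ?_).trans ?_
  · refine (index_centralizer_le α hα A hAab hAα x.2).trans (le_trans ?_ (Nat.le_succ _))
    exact Nat.mul_le_mul (Nat.mul_le_mul hA hc) (Nat.mul_le_mul hc hm)
  · refine Nat.pow_le_pow_right (Nat.succ_pos _) ?_
    rw [Finset.card_univ, ← Nat.card_eq_fintype_card, Nat.card_coe_set_eq]
    exact hm

/-- The order bound for a group with few generators of small order and bounded central index. -/
def orderBound (m e : ℕ) : ℕ := (e + 1) ^ (e * (e * e) + 1) * (m + 1) ^ m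

omit [Finite Q] in
theorem card_closure_le {C : Type*} [CommGroup C] [Finite C] (S : Finset C) {m : ℕ}
    (hS : ∀ x ∈ S, orderOf x ≤ m) :
    Nat.card (Subgroup.closure (S : Set C)) ≤ m ^ S.card := by
  classical
  induction S using Finset.induction_on with
  | empty =>
    rw [Finset.coe_empty, Subgroup.closure_empty, Subgroup.card_bot, Finset.card_empty, pow_zero]
  | @insert a S ha ih =>
    rw [Finset.coe_insert, Set.insert_eq, Subgroup.closure_union, Finset.card_insert_of_notMem ha,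
      pow_succ']
    refine le_trans ?_ (Nat.mul_le_mul (hS a (Finset.mem_insert_self a S))
      (ih fun x hx => hS x (Finset.mem_insert_of_mem hx)))
    rw [← Nat.card_zpowers, Subgroup.zpowers_eq_closure, ← Nat.card_prod]
    refine Nat.card_le_card_of_surjective
      (fun p => (⟨(p.1 : C) * p.2, Subgroup.mul_mem_sup p.1.2 p.2.2⟩ :
        ↥(Subgroup.closure ({a} : Set C) ⊔ Subgroup.closure (S : Set C)))) ?_
    rintro ⟨z, hz⟩
    obtain ⟨p, hp, q, hq, rfl⟩ := Subgroup.mem_sup.1 hz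
    exact ⟨(⟨p, hp⟩, ⟨q, hq⟩), rfl⟩

theorem card_le_orderBound {m e : ℕ} (I : Set Q) (hgen : Subgroup.closure I = ⊤)
    (hcard : I.ncard ≤ m) (hord : ∀ x ∈ I, orderOf x ≤ m) (he : (Subgroup.center Q).index ≤ e) :
    Nat.card Q ≤ orderBound m e := by
  classical
  haveI := Fintype.ofFinite Q
  obtain ⟨z, hz⟩ : ∃ z, z = (Subgroup.center Q).index := ⟨_, rfl⟩
  have hzpos : 0 < z := hz ▸ Nat.pos_of_ne_zero Subgroup.index_ne_zero_of_finite
  have hcs : Nat.card (commutatorSet Q) ≤ e * e := by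
    refine le_trans ?_ (Nat.mul_le_mul he he)
    rw [Subgroup.index_eq_card, ← Nat.card_prod]
    refine Nat.card_le_card_of_surjective (fun p : (Q ⧸ Subgroup.center Q) × (Q ⧸ Subgroup.center Q) =>
      (⟨⁅p.1.out, p.2.out⁆, commutator_mem_commutatorSet _ _⟩ : commutatorSet Q)) ?_
    rintro ⟨y, g₁, g₂, rfl⟩
    refine ⟨(QuotientGroup.mk g₁, QuotientGroup.mk g₂), Subtype.ext ?_⟩
    obtain ⟨⟨z₁, hz₁⟩, h1⟩ := QuotientGroup.mk_out_eq_mul (Subgroup.center Q) g₁
    obtain ⟨⟨z₂, hz₂⟩, h2⟩ := QuotientGroup.mk_out_eq_mul (Subgroup.center Q) g₂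
    show ⁅(QuotientGroup.mk g₁ : Q ⧸ Subgroup.center Q).out,
      (QuotientGroup.mk g₂ : Q ⧸ Subgroup.center Q).out⁆ = ⁅g₁, g₂⁆
    rw [h1, h2, commutatorElement_def, commutatorElement_def]
    have c1 := Subgroup.mem_center_iff.1 hz₁
    have c2 := Subgroup.mem_center_iff.1 hz₂
    simp only [mul_inv_rev]
    calc g₁ * z₁ * (g₂ * z₂) * (z₁⁻¹ * g₁⁻¹) * (z₂⁻¹ * g₂⁻¹)
        = g₁ * (z₁ * (g₂ * z₂)) * z₁⁻¹ * g₁⁻¹ * z₂⁻¹ * g₂⁻¹ := by group
      _ = g₁ * ((g₂ * z₂) * z₁) * z₁⁻¹ * g₁⁻¹ * z₂⁻¹ * g₂⁻¹ := by rw [← c1]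
      _ = g₁ * g₂ * (z₂ * g₁⁻¹) * z₂⁻¹ * g₂⁻¹ := by group
      _ = g₁ * g₂ * (g₁⁻¹ * z₂) * z₂⁻¹ * g₂⁻¹ := by rw [← c2]
      _ = g₁ * g₂ * g₁⁻¹ * g₂⁻¹ := by group
  have hder : Nat.card (commutator Q) ≤ (e + 1) ^ (e * (e * e) + 1) := by
    refine (Nat.le_of_dvd (pow_pos (hz ▸ hzpos) _)
      (Subgroup.card_commutator_dvd_index_center_pow Q)).trans ?_
    refine (Nat.pow_le_pow_left (he.trans (Nat.le_succ e)) _).trans ?_
    exact Nat.pow_le_pow_right (Nat.succ_pos e) (Nat.add_le_add_right (Nat.mul_le_mul he hcs) 1)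
  have habel : Nat.card (Abelianization Q) ≤ (m + 1) ^ m := by
    let S : Finset (Abelianization Q) := (Finset.univ.filter fun x => x ∈ I).image Abelianization.of
    have hgenS : Subgroup.closure (S : Set (Abelianization Q)) = ⊤ := by
      rw [eq_top_iff]
      intro q _
      obtain ⟨g, rfl⟩ : ∃ g, Abelianization.of g = q := QuotientGroup.mk'_surjective _ q
      have hg : g ∈ (Subgroup.closure (S : Set (Abelianization Q))).comap Abelianization.of := by
        refine (Subgroup.closure_le _).2 ?_ (hgen ▸ Subgroup.mem_top g)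
        intro x hx
        exact Subgroup.subset_closure (Finset.mem_coe.2 (Finset.mem_image_of_mem _
          (Finset.mem_filter.2 ⟨Finset.mem_univ x, hx⟩)))
      exact hg
    have h := card_closure_le S (m := m + 1) (fun q hq => by
      obtain ⟨x, hx, rfl⟩ := Finset.mem_image.1 hq
      exact (Nat.le_of_dvd (orderOf_pos x) (orderOf_map_dvd _ x)).trans
        ((hord x (Finset.mem_filter.1 hx).2).trans (Nat.le_succ m)))
    rw [hgenS, Subgroup.card_top] at h
    refine h.trans (Nat.pow_le_pow_right (Nat.succ_pos m) (Finset.card_image_le.trans ?_))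
    refine le_trans (le_of_eq ?_) hcard
    rw [← Set.ncard_coe_finset]
    simp
  rw [Subgroup.card_eq_card_quotient_mul_card_subgroup (commutator Q), mul_comm]
  exact Nat.mul_le_mul hder habel

end H66.InvSub
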