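import Cfsg.Agent.H43.InvSub.Stmts
import Cfsg.Agent.H43.InvSub.Basic
import Cfsg.Agent.H66.InvSub.BoundCore

/-!
The bound of S3928: an involutory automorphism `α` with `[G, α] = G` bounds `|G|` by the number of
elements of odd order it inverts, given subnormality of `tSub`.
-/

set_option autoImplicit false

namespace H66.InvSub

open H43.InvSub

/-- A subnormal subgroup containing `t` is everything when `t` normally generates. -/
theorem eq_top_of_subnormal {S : Type*} [Group S] {t : S}
    (hnc : Subgroup.normalClosure ({t} : Set S) = ⊤) {H : Subgroup S} (h : H.IsSubnormal)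
    (ht : t ∈ H) : H = ⊤ := by
  induction h with
  | top => rfl
  | step H K hle _ hN ih =>
    have hK : K = ⊤ := ih (hle ht)
    subst hK
    haveI : H.Normal := ⟨fun x hx g => by
      have := hN.conj_mem ⟨x, trivial⟩ hx ⟨g, trivial⟩
      exact this⟩
    rw [eq_top_iff, ← hnc]
    exact Subgroup.normalClosure_le_normal (Set.singleton_subset_iff.2 ht)

theorem comm_aux {S : Type*} [Group S] (z t : S) :
    z * (t * z * t⁻¹)⁻¹ = z * t * z⁻¹ * t⁻¹ := by group

theorem sq_apply {G : Type*} [Group G] {α : MulAut G} (hα : orderOf α = 2) (g : G) : α (α g) = g := by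
  have h : α * α = 1 := H43.InvSub.mul_self_of_orderOf_two hα
  exact congrArg (fun β : MulAut G => β g) h

/-- `[G, α] = G` makes the inverted elements of odd order generate. -/
theorem closure_invOdd (hmain : MainStmt.{0}) (G : Type) [Group G] [Finite G] (α : MulAut G)
    (hα : orderOf α = 2) (hgen : Subgroup.closure (Set.range fun c : G => c * (α c)⁻¹) = ⊤) :
    Subgroup.closure (invOdd α) = ⊤ := by
  let φ : Subgroup.zpowers α →* MulAut G := (Subgroup.zpowers α).subtype
  let S := G ⋊[φ] Subgroup.zpowers α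
  haveI : Finite (Subgroup.zpowers α) :=
    Nat.finite_of_card_ne_zero (by rw [Nat.card_zpowers, hα]; norm_num)
  haveI : Finite S := Finite.of_equiv _ SemidirectProduct.equivProd.symm
  let a : Subgroup.zpowers α := ⟨α, Subgroup.mem_zpowers α⟩
  let t : S := SemidirectProduct.inr a
  have ha : orderOf a = 2 := by rw [← Subgroup.orderOf_coe]; exact hα
  have ht : orderOf t = 2 := (orderOf_injective _ SemidirectProduct.inr_injective a).trans ha
  have haut : ∀ g : G, t * SemidirectProduct.inl g * t⁻¹ = SemidirectProduct.inl (α g) := fun g => by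
    have h := SemidirectProduct.inl_aut (φ := φ) a g
    rw [map_inv] at h
    exact h.symm
  have hnc : Subgroup.normalClosure ({t} : Set S) = ⊤ := by
    rw [eq_top_iff]
    intro s _
    have htN : t ∈ Subgroup.normalClosure ({t} : Set S) := Subgroup.subset_normalClosure rfl
    have hG : ∀ g : G, (SemidirectProduct.inl g : S) ∈ Subgroup.normalClosure ({t} : Set S) := by
      intro g
      have hg : g ∈ (Subgroup.normalClosure ({t} : Set S)).comap SemidirectProduct.inl := by
        refine (Subgroup.closure_le _).2 ?_ (hgen ▸ Subgroup.mem_top g)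
        rintro _ ⟨c, rfl⟩
        show (SemidirectProduct.inl (c * (α c)⁻¹) : S) ∈ Subgroup.normalClosure ({t} : Set S)
        rw [map_mul, map_inv, ← haut c,
          comm_aux]
        exact mul_mem (Subgroup.normalClosure_normal.conj_mem t htN _) (inv_mem htN)
      exact hg
    rw [← SemidirectProduct.inl_left_mul_inr_right s]
    refine mul_mem (hG _) ?_
    obtain ⟨k, hk⟩ := Subgroup.mem_zpowers_iff.1 s.right.2
    have he : s.right = a ^ k := Subtype.ext (by rw [Subgroup.coe_zpow]; exact hk.symm)
    rw [he, map_zpow]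
    exact zpow_mem htN k
  have hT : tSub t = ⊤ := eq_top_of_subnormal hnc (hmain S t ht) (mem_tSub_self t)
  let K : Subgroup G := Subgroup.closure (invOdd α)
  have hKα : ∀ g ∈ K, α g ∈ K := by
    intro g hg
    have h : g ∈ K.comap α.toMonoidHom := by
      refine (Subgroup.closure_le _).2 ?_ hg
      intro x hx
      show α x ∈ K
      rw [hx.2]
      exact inv_mem (Subgroup.subset_closure hx)
    exact h
  have hKβ : ∀ β : Subgroup.zpowers α, ∀ g ∈ K, φ β g ∈ K := by
    intro β g hg
    haveI : Finite (MulAut G) := Finite.of_injective (fun β : MulAut G => (β : G → G)) DFunLike.coe_injective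
    obtain ⟨k, hk⟩ := (mem_powers_iff_mem_zpowers).2 β.2
    have hk' : (φ β : MulAut G) = α ^ k := hk.symm
    rw [hk']
    clear hk hk'
    induction k with
    | zero => simpa using hg
    | succ k ih => rw [pow_succ']; exact hKα _ ih
  let T : Subgroup S :=
    { carrier := {s | s.left ∈ K}
      one_mem' := one_mem K
      mul_mem' := fun {x y} hx hy => by
        show (x * y).left ∈ K
        rw [SemidirectProduct.mul_left]
        exact mul_mem hx (hKβ _ _ hy)
      inv_mem' := fun {x} hx => by
        show x⁻¹.left ∈ K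
        rw [SemidirectProduct.inv_left]
        exact hKβ _ _ (inv_mem hx) }
  have hle : tSub t ≤ T := by
    refine tSub_le_iff.2 ⟨?_, ?_⟩
    · show t.left ∈ K
      exact one_mem K
    · rintro x ⟨hodd, hinv⟩
      have hr : x.right = 1 := by
        have h1 : orderOf x.right ∣ orderOf x :=
          orderOf_map_dvd (SemidirectProduct.rightHom : S →* _) x
        have h2 : orderOf x.right ∣ 2 := by
          rw [← hα, ← Nat.card_zpowers α]; exact orderOf_dvd_natCard _
        rw [← orderOf_eq_one_iff]
        exact Nat.eq_one_of_dvd_coprimes (Nat.coprime_two_right.2 hodd) h1 h2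
      have hxl : x = SemidirectProduct.inl x.left := SemidirectProduct.ext rfl hr
      show x.left ∈ K
      refine Subgroup.subset_closure ⟨?_, ?_⟩
      · rw [← orderOf_injective _ (SemidirectProduct.inl_injective (φ := φ)) x.left]
        exact (congrArg orderOf hxl) ▸ hodd
      · refine SemidirectProduct.inl_injective (φ := φ) ?_
        rw [map_inv, ← haut]
        exact hxl ▸ hinv
  rw [eq_top_iff]
  intro g _
  have h : (SemidirectProduct.inl g : S) ∈ T := hle (hT ▸ Subgroup.mem_top _)
  exact h

/-- The bounding function. -/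
def boundFn (m : ℕ) : ℕ := orderBound m (orderBound m (centerBound (m ^ m) m))

theorem card_le_boundFn {G : Type} [Group G] [Finite G] (α : MulAut G) (hα : ∀ g, α (α g) = g)
    (hgen : Subgroup.closure (invOdd α) = ⊤) : Nat.card G ≤ boundFn (invOdd α).ncard := by
  classical
  haveI := Fintype.ofFinite G
  let Z := Subgroup.center G
  let β : MulAut (G ⧸ Z) := QuotientGroup.congr Z Z α (by
    ext g
    rw [Subgroup.mem_center_iff]
    constructor
    · rintro ⟨z, hz, rfl⟩ h
      show h * α z = α z * h
      rw [← hα h, ← map_mul, ← map_mul, Subgroup.mem_center_iff.1 hz]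
    · intro hg
      refine ⟨α g, Subgroup.mem_center_iff.2 fun h => ?_, hα g⟩
      rw [← hα h, ← map_mul, ← map_mul, hg])
  have hβ : ∀ g : G, β (g : G ⧸ Z) = (α g : G ⧸ Z) := fun g => rfl
  have hββ : ∀ q, β (β q) = q := by
    intro q
    induction q using QuotientGroup.induction_on with
    | _ g => rw [hβ, hβ, hα]
  have himg : (QuotientGroup.mk' Z) '' invOdd α ⊆ invOdd β := by
    rintro _ ⟨x, hx, rfl⟩
    refine ⟨Odd.of_dvd_nat hx.1 (orderOf_map_dvd _ x), ?_⟩
    rw [show β (QuotientGroup.mk' Z x) = QuotientGroup.mk' Z (α x) from rfl, hx.2, map_inv]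
  have hsurj : invOdd β ⊆ (QuotientGroup.mk' Z) '' invOdd α := by
    intro y hy
    obtain ⟨r, hr⟩ := hy.1
    obtain ⟨g, hg⟩ := QuotientGroup.mk'_surjective Z (y ^ (r + 1))
    let u := g * (α g)⁻¹
    have hu : QuotientGroup.mk' Z u = y := by
      have h : QuotientGroup.mk' Z (α g) = β (QuotientGroup.mk' Z g) := rfl
      rw [map_mul, map_inv, h, hg, map_pow, hy.2, inv_pow, inv_inv, ← pow_add,
        show r + 1 + (r + 1) = orderOf y + 1 by omega, pow_succ, pow_orderOf_eq_one, one_mul]
    obtain ⟨k, -, hodd, -, hk⟩ := exists_odd_part u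
    refine ⟨u ^ k, ⟨hodd, ?_⟩, ?_⟩
    · rw [map_pow, show α u = u⁻¹ by
        simp only [u, map_mul, map_inv, hα, mul_inv_rev, inv_inv], inv_pow]
    · rw [map_pow, hu]
      conv_rhs => rw [← pow_one y]
      rw [pow_eq_pow_iff_modEq]
      exact hk _ hy.1 (hu ▸ orderOf_map_dvd _ u)
  have hgenQ : Subgroup.closure (invOdd β) = ⊤ := by
    rw [eq_top_iff]
    refine le_trans (le_of_eq ?_) (Subgroup.closure_mono himg)
    rw [← MonoidHom.map_closure, hgen,
      Subgroup.map_top_of_surjective _ (QuotientGroup.mk'_surjective Z)]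
  have hmQ : (invOdd β).ncard ≤ (invOdd α).ncard :=
    (Set.ncard_le_ncard hsurj).trans (Set.ncard_image_le)
  have hc : nfix β ≤ (invOdd α).ncard ^ (invOdd α).ncard := by
    have hcard : (invOdd α).ncard ^ (invOdd α).ncard = Nat.card (invOdd α → invOdd α) := by
      rw [Nat.card_fun, Nat.card_coe_set_eq]
    rw [hcard]
    have hfix : ∀ q : {q : G ⧸ Z // β q = q}, ∀ x : invOdd α,
        q.1.out * (x : G) * q.1.out⁻¹ ∈ invOdd α := by
      intro q x
      refine ⟨?_, ?_⟩
      · rw [show q.1.out * (x : G) * q.1.out⁻¹ = MulAut.conj q.1.out x from rfl,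
          MulEquiv.orderOf_eq]
        exact x.2.1
      · have hz : q.1.out⁻¹ * α q.1.out ∈ Z := by
          rw [← QuotientGroup.eq, ← hβ, QuotientGroup.out_eq' q.1]
          exact q.2.symm
        have hz' := Subgroup.mem_center_iff.1 hz
        rw [map_mul, map_mul, map_inv, x.2.2, mul_inv_rev, mul_inv_rev, inv_inv]
        calc α q.1.out * (x : G)⁻¹ * (α q.1.out)⁻¹
            = q.1.out * ((q.1.out⁻¹ * α q.1.out) * (x : G)⁻¹) * (α q.1.out)⁻¹ := by group
          _ = q.1.out * ((x : G)⁻¹ * (q.1.out⁻¹ * α q.1.out)) * (α q.1.out)⁻¹ := by rw [hz']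
          _ = q.1.out * ((x : G)⁻¹ * q.1.out⁻¹) := by group
    refine Nat.card_le_card_of_injective
      (fun q x => (⟨_, hfix q x⟩ : invOdd α)) ?_
    intro q q' h
    refine Subtype.ext ?_
    rw [← QuotientGroup.out_eq' q.1, ← QuotientGroup.out_eq' q'.1, QuotientGroup.eq]
    rw [Subgroup.mem_center_iff]
    intro g
    have hmem : g ∈ Subgroup.centralizer ({q.1.out⁻¹ * q'.1.out} : Set G) := by
      refine (Subgroup.closure_le _).2 ?_ (hgen ▸ Subgroup.mem_top g)
      intro x hx
      have h1 : q.1.out * x * q.1.out⁻¹ = q'.1.out * x * q'.1.out⁻¹ :=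
        congrArg Subtype.val (congrFun h ⟨x, hx⟩)
      rw [SetLike.mem_coe, Subgroup.mem_centralizer_singleton_iff]
      calc x * (q.1.out⁻¹ * q'.1.out) = q.1.out⁻¹ * (q.1.out * x * q.1.out⁻¹) * q'.1.out := by group
        _ = q.1.out⁻¹ * (q'.1.out * x * q'.1.out⁻¹) * q'.1.out := by rw [h1]
        _ = q.1.out⁻¹ * q'.1.out * x := by group
    exact Subgroup.mem_centralizer_singleton_iff.1 hmem
  have hQ : Nat.card (G ⧸ Z) ≤ orderBound (invOdd α).ncard
      (centerBound ((invOdd α).ncard ^ (invOdd α).ncard) (invOdd α).ncard) :=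
    card_le_orderBound (invOdd β) hgenQ hmQ
      (fun x hx => (orderOf_le_of_invOdd hx).trans hmQ) (index_center_le β hββ hgenQ hc hmQ)
  exact card_le_orderBound (invOdd α) hgen le_rfl (fun x hx => orderOf_le_of_invOdd hx)
    (le_of_eq_of_le (Subgroup.index_eq_card Z) hQ)

theorem bound : H43.InvSub.BoundStmt := by
  intro hmain
  refine ⟨boundFn, fun G _ _ _ α hα hgen => ?_⟩
  have h := card_le_boundFn α (sq_apply hα) (closure_invOdd hmain G α hα hgen)
  exact h

end H66.InvSub
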